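import Groth.Agent.ShStab.K34.MulIter
import Groth.Agent.Ega1.AmpFam
import Groth.Agent.Ega2.SecCalc

/-!
# The restriction theorem: reduction to projective space

`red`: the restriction theorem for `ℓ`-semistable modules on a closed subscheme of `P^N_k` (S18972) from the one on `P^N_k`.
-/

set_option autoImplicit false
universe u
open CategoryTheory CategoryTheory.Limits AlgebraicGeometry TopologicalSpace Polynomial

namespace K34.NodeRed

open Groth.Agent Groth.Agent.Fdesc Groth.Agent.Fdesc.LocGen Groth.Agent.Fga.RegSec Groth.Agent.Fga.PicMon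
  Groth.Agent.Ega2 K781.Base ShStab K847.Pn K847.GL K847.Lin K34.ClEll K34.MulIter

theorem mc_iterT {X : Scheme.{u}} (N : X.Modules) (a : ℕ) (F : X.Modules) : mc (iterT N a F) = mc N ^ a * mc F := by
  induction a with
  | zero => rw [pow_zero, one_mul]; rfl
  | succ a ih =>
    change mc (CohB1.tensorMod N (iterT N a F)) = _
    rw [mc_tensor, ih, pow_succ', mul_assoc]

variable (k : Type u) [Field k] {n : ℕ}

theorem nonempty_iterT_iso (a : ℕ) :
    Nonempty (iterT (O k n 1) a (Coh.structureModule (CohB1.ProjSpace n k)) ≅ O k n (a : ℤ)) := by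
  obtain ⟨e'⟩ := Ega3B.ProjFrame.nonempty_twistProjSpace_iso n k a
  rw [← mc_eq_iff, mc_iterT, mc_eq e', mc_tensorPow, mc_one, mul_one]

/-- The restriction theorem on a closed subscheme of `P^N_k` from the one on `P^N_k`. -/
theorem red (h : K781.Base.StmtPn.{u}) (k : Type u) [Field k] [IsAlgClosed k]
    (X : Scheme.{u}) [X.Over (Spec (CommRingCat.of k))]
    [IsProper (X ↘ Spec (CommRingCat.of k))]
    (N : ℕ) (ι : X ⟶ CohB1.ProjSpace N k) [IsClosedImmersion ι]
    (hι : ι ≫ CohB1.ProjSpace.toSpec N k = X ↘ Spec (CommRingCat.of k))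
    (d ℓ : ℕ) (hℓ : 1 ≤ ℓ) (hℓd : ℓ < d) (E : X.Modules)
    (hE : ShStab.IsEllSemistable k X ((Scheme.Modules.pullback ι).obj (Twist.twistProjSpace N k 1)) E d ℓ) :
    ∃ a₀ : ℕ, ∀ a : ℕ, a₀ ≤ a → ∀ T : Set ↥X, T.Finite →
      ∃ σ : Coh.structureModule X ⟶ (Scheme.Modules.pullback ι).obj (Twist.twistProjSpace N k (a : ℤ)),
        (∀ x ∈ T, x ∉ (PicF2.zeroScheme _ σ).support) ∧
        letI : (PicF2.zeroScheme _ σ).subscheme.Over (Spec (CommRingCat.of k)) :=
          ⟨(PicF2.zeroScheme _ σ).subschemeι ≫ X ↘ Spec (CommRingCat.of k)⟩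
        ShStab.IsEllSemistable k (PicF2.zeroScheme _ σ).subscheme
          ((Scheme.Modules.pullback (PicF2.zeroScheme _ σ).subschemeι).obj
            ((Scheme.Modules.pullback ι).obj (Twist.twistProjSpace N k 1)))
          ((Scheme.Modules.pullback (PicF2.zeroScheme _ σ).subschemeι).obj E) (d - 1) ℓ := by
  have hinf : Infinite k := IsAlgClosed.instInfinite
  have hO := (isAmple_O_one k N).1
  have hE' : IsEllSemistable k (CohB1.ProjSpace N k) (O k N 1) ((Scheme.Modules.pushforward ι).obj E) d ℓ :=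
    isEllSemistable_push k ι hι hO hE
  obtain ⟨B, hB, a₀, hmain⟩ := h k N d ℓ hℓ hℓd _ hE'
  refine ⟨a₀, fun a ha T hT => ?_⟩
  obtain ⟨s, hs⟩ := exists_section_avoiding k (Coh.toGlobal ((CohB1.ProjSpace N k) ↘ Spec (CommRingCat.of k)))
    hO (exists_mem_genLocus k N) (B ∪ ι '' T) (hB.union (hT.image _))
  have h1 := hmain a ha s (Set.subset_union_left.trans hs)
  obtain ⟨θ, hθ⟩ := exists_iter s a ((Scheme.Modules.pushforward ι).obj E)
  obtain ⟨e⟩ := nonempty_iterT_iso k (n := N) a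
  have hOa : PicF.IsInvertible (O k N (a : ℤ)) := Sga67.SerreVB.isInvertible_twist N k _
  have hOa' : PicF.IsInvertible (O k N (-(a : ℤ))) := Sga67.SerreVB.isInvertible_twist N k _
  let t : Coh.structureModule (CohB1.ProjSpace N k) ⟶ O k N (a : ℤ) := mulI s a (Coh.structureModule _) ≫ e.hom
  have h2 : Nonempty (cokernel (mulI s a ((Scheme.Modules.pushforward ι).obj E)) ≅
      cokernel (mulS t ((Scheme.Modules.pushforward ι).obj E))) := by
    have h3 : mulS t ((Scheme.Modules.pushforward ι).obj E) =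
        mulI s a ((Scheme.Modules.pushforward ι).obj E) ≫ θ.hom ≫ (Tens.mapTIso e (Iso.refl _)).hom := by
      rw [← Category.assoc, hθ]
      exact mulS_comp_left _ e.hom _
    exact ⟨(cokernelCompIsIso (mulI s a ((Scheme.Modules.pushforward ι).obj E))
      (θ.hom ≫ (Tens.mapTIso e (Iso.refl _)).hom)).symm ≪≫ cokernelIsoOfEq h3.symm⟩
  obtain ⟨e2⟩ := h2
  have hinv : Nonempty (CohB1.tensorMod (O k N (-(a : ℤ))) (O k N (a : ℤ)) ≅
      Coh.structureModule (CohB1.ProjSpace N k)) := by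
    have := O_inv (k := k) (n := N) (-(a : ℤ))
    rwa [neg_neg] at this
  obtain ⟨e3⟩ := nonempty_iso_coker ι t hOa hOa' hinv E
  refine ⟨LocGen.pullHom ι t, ?_, ?_⟩
  · intro x hx hx'
    have hxs : ι x ∈ CohB1.genLocus _ s := hs (Or.inr ⟨x, hx, rfl⟩)
    have hxt : ι x ∈ CohB1.genLocus _ t := by
      have h4 := mem_genLocus_mulI s a hxs
      rwa [← SecCalc.genLocus_comp _ e.hom] at h4
    have hinvD : PicF.IsInvertible ((Scheme.Modules.pullback ι).obj (O k N (a : ℤ))) :=
      Fdesc.LocGen.isInvertible_pullback ι hOa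
    refine (Pi1C.ZeroScheme.mem_support_iff (LocGen.pullHom ι t) hinvD x).1 hx' ?_
    rw [Ega1.AmpFam.genLocus_pullHom ι hOa]
    exact hxt
  · let D := (PicF2.zeroScheme _ (LocGen.pullHom ι t)).subscheme
    let i := (PicF2.zeroScheme _ (LocGen.pullHom ι t)).subschemeι
    let _ : (PicF2.zeroScheme _ (LocGen.pullHom ι t)).subscheme.Over (Spec (CommRingCat.of k)) :=
      ⟨(PicF2.zeroScheme _ (LocGen.pullHom ι t)).subschemeι ≫ X ↘ Spec (CommRingCat.of k)⟩
    have h4 := isEllSemistable_tw k h1 (-(a : ℤ))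
    have e4 : Nonempty (tw (cokernel (mulI s a ((Scheme.Modules.pushforward ι).obj E))) (-(a : ℤ)) ≅
        (Scheme.Modules.pushforward (i ≫ ι)).obj ((Scheme.Modules.pullback i).obj E)) :=
      ⟨Tens.swap _ _ ≪≫ Tens.mapTIso (Iso.refl _) e2 ≪≫ e3⟩
    have h5 := isEllSemistable_iso k e4.some h4
    have h6 : (i ≫ ι) ≫ (CohB1.ProjSpace N k ↘ Spec (CommRingCat.of k)) =
        (PicF2.zeroScheme _ (LocGen.pullHom ι t)).subscheme ↘ Spec (CommRingCat.of k) := by
      rw [Category.assoc]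
      exact congrArg (fun q => i ≫ q) hι
    have h7 := isEllSemistable_of_push k (i ≫ ι) h6 hO h5
    exact isEllSemistable_iso_left k ((Scheme.Modules.pullbackComp i ι).app (O k N 1)).symm h7

end K34.NodeRed
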