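import Groth.Agent.ShStab.K847.GLTwist
import Groth.Agent.ParSh.K958.Satur
import Groth.Agent.Coherent.K51.HPDict
import Groth.Agent.ShStab.K781.Base

/-!
# Lower bounds for the slopes of quotients

* `exists_pure_quot`: a coherent module with support of dimension at most `d` has a coherent submodule with support of
  dimension less than `d` whose quotient is pure of dimension `d`.
* `min_slope`: slopes of quotients of `O(-ρ)^b` of bounded multiplicity are bounded below.
-/

set_option autoImplicit false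
universe u
open CategoryTheory CategoryTheory.Limits AlgebraicGeometry Polynomial

namespace K34.NodeMin

open Groth.Agent Groth.Agent.CohqB.DevSupport K958.Abel K958.StrX K958.StrCoh Groth.Agent.CycB.StalkExact K958.Satur

section pure

variable {X : Scheme.{u}}

/-- Saturation: a coherent submodule `P` of a coherent module `E` with support of dimension at most `d` is contained in a
coherent submodule `Q` with `dim Supp (Q/P) < d` and `E/Q` pure of dimension `d`. -/
theorem exists_saturation [IsNoetherian X] {E : X.Modules} (hE : Coh.IsCoh E) {d : ℕ}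
    (hd : topologicalKrullDim (CohB1.support E) ≤ (d : WithBot ℕ∞)) (P : Subobject E)
    (hP : Coh.IsCoh (P : X.Modules)) :
    ∃ (Q : Subobject E) (h : P ≤ Q), Coh.IsCoh (Q : X.Modules) ∧
      topologicalKrullDim (CohB1.support (cokernel (Subobject.ofLE P Q h))) < (d : WithBot ℕ∞) ∧
      ShStab.IsPure X (cokernel Q.arrow) d := by
  have hwf := K846.Acc.wellFoundedGT E hE
  let s : Set {F : Subobject E // Coh.IsCoh (F : X.Modules)} :=
    {Q | ∃ h : P ≤ Q.1, topologicalKrullDim (CohB1.support (cokernel (Subobject.ofLE P Q.1 h))) < (d : WithBot ℕ∞)}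
  have hs : s.Nonempty := by
    refine ⟨⟨P, hP⟩, le_rfl, dim_support_of_isZero ?_ d⟩
    have : IsIso (Subobject.ofLE P P le_rfl) := by
      rw [Subobject.ofLE_refl]; infer_instance
    exact isZero_cokernel_of_epi _
  obtain ⟨⟨Q, hQ⟩, ⟨hPQ, hdim⟩, hmax⟩ := (wellFounded_gt (α := {F : Subobject E // Coh.IsCoh (F : X.Modules)})).has_min s hs
  refine ⟨Q, hPQ, hQ, hdim, ?_⟩
  intro F ι hι hF hF0
  have hEQ : Coh.IsCoh (cokernel Q.arrow) := isCoh_cokernel_sub hE Q hQ
  have hle : topologicalKrullDim (CohB1.support F) ≤ (d : WithBot ℕ∞) :=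
    (dim_mono ((support_subset_of_mono ι).trans (support_subset_of_epi (cokernel.π Q.arrow)))).trans hd
  by_contra hne
  have hlt := lt_of_le_of_ne hle hne
  -- the preimage of `F` in `E`
  let M : Subobject (cokernel Q.arrow) := Subobject.mk ι
  have hM : Coh.IsCoh (M : X.Modules) := Sga67.CohBasic.isCoh_of_iso (Subobject.underlyingIso ι).symm hF
  let R : Subobject E := (Subobject.pullback (cokernel.π Q.arrow)).obj M
  have hR : Coh.IsCoh (R : X.Modules) := isCoh_pull _ hE hEQ M hM
  have sq := Subobject.isPullback (cokernel.π Q.arrow) M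
  have hepi : Epi (Subobject.pullbackπ (cokernel.π Q.arrow) M) := Abelian.epi_fst_of_isLimit _ _ sq.isLimit
  have hQR : Q ≤ R := by
    refine Subobject.le_of_comm (sq.lift 0 Q.arrow (by rw [Limits.zero_comp, cokernel.condition])) ?_
    exact sq.lift_snd _ _ _
  have hsupp : CohB1.support (cokernel (Subobject.ofLE Q R hQR)) ⊆ CohB1.support F := by
    intro x hx hx'
    refine hx ?_
    have hM0 : Subsingleton ((M : X.Modules).presheaf.stalk x) := by
      rw [← not_mem_support_iff, support_congr (Subobject.underlyingIso ι), not_mem_support_iff]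
      exact hx'
    have e1 := stalkLin_exact _ (shortExact_sub Q).exact x
    have e2 := stalkLin_exact _ (shortExact_ofLE hQR).exact x
    have s2 := stalkLin_surjective (cokernel.π (Subobject.ofLE Q R hQR)) x
    have hinj := stalkLin_injective R.arrow x
    have key : ∀ a : (cokernel (Subobject.ofLE Q R hQR)).presheaf.stalk x, a = 0 := by
      intro a
      obtain ⟨r, rfl⟩ := s2 a
      have h1 : stalkLin (cokernel.π Q.arrow) x (stalkLin R.arrow x r) = 0 := by
        have h2 := LinearMap.congr_fun (stalkLin_comp R.arrow (cokernel.π Q.arrow) x) r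
        have h3 := LinearMap.congr_fun
          (stalkLin_comp (Subobject.pullbackπ (cokernel.π Q.arrow) M) M.arrow x) r
        rw [LinearMap.comp_apply] at h2 h3
        have h4 : R.arrow ≫ cokernel.π Q.arrow = Subobject.pullbackπ (cokernel.π Q.arrow) M ≫ M.arrow := sq.w.symm
        rw [← h2, h4, h3, @Subsingleton.elim _ hM0 (stalkLin (Subobject.pullbackπ (cokernel.π Q.arrow) M) x r) 0,
          map_zero]
      obtain ⟨q, hq⟩ := (e1 _).1 h1
      refine (e2 _).2 ⟨q, hinj ?_⟩
      have h5 := LinearMap.congr_fun (stalkLin_comp (Subobject.ofLE Q R hQR) R.arrow x) q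
      rw [LinearMap.comp_apply, Subobject.ofLE_arrow] at h5
      rw [← hq]
      exact h5.symm
    exact ⟨fun a b => by rw [key a, key b]⟩
  have hdimR : topologicalKrullDim (CohB1.support (cokernel (Subobject.ofLE P R (hPQ.trans hQR)))) <
      (d : WithBot ℕ∞) := by
    refine lt_of_le_of_lt (dim_mono (support_trans hPQ hQR)) (dim_union_lt ?_ ?_ d hdim
      (lt_of_le_of_lt (dim_mono hsupp) hlt))
    · exact isClosed_support (isCoh_ofLE_cokernel hPQ hP hQ)
    · exact isClosed_support (isCoh_ofLE_cokernel hQR hQ hR)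
  have hQReq : Q = R := by
    by_contra hneq
    exact hmax ⟨R, hR⟩ ⟨hPQ.trans hQR, hdimR⟩ (lt_of_le_of_ne hQR hneq : Q < R)
  refine hF0 ?_
  have h1 : R.arrow ≫ cokernel.π Q.arrow = 0 := by
    have h2 : Subobject.ofLE R Q hQReq.ge ≫ Q.arrow = R.arrow := Subobject.ofLE_arrow _
    rw [← h2, Category.assoc, cokernel.condition, Limits.comp_zero]
  have h3 : Subobject.pullbackπ (cokernel.π Q.arrow) M ≫ M.arrow = 0 := by rw [sq.w]; exact h1
  have h4 : M.arrow = 0 := by
    rw [← cancel_epi (Subobject.pullbackπ (cokernel.π Q.arrow) M), h3, Limits.comp_zero]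
  have h5 : ι = 0 := by
    rw [← Subobject.underlyingIso_arrow ι]
    change _ ≫ M.arrow = 0
    rw [h4, Limits.comp_zero]
  exact IsZero.of_mono_eq_zero ι h5

/-- A coherent module with support of dimension at most `d` has a quotient which is pure of dimension `d`, with kernel of
smaller dimension. -/
theorem exists_pure_quot [IsNoetherian X] {E : X.Modules} (hE : Coh.IsCoh E) {d : ℕ}
    (hd : topologicalKrullDim (CohB1.support E) ≤ (d : WithBot ℕ∞)) :
    ∃ Q : Subobject E, Coh.IsCoh (Q : X.Modules) ∧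
      topologicalKrullDim (CohB1.support (Q : X.Modules)) < (d : WithBot ℕ∞) ∧
      ShStab.IsPure X (cokernel Q.arrow) d := by
  have h0 : IsZero ((⊥ : Subobject E) : X.Modules) := (isZero_zero X.Modules).of_iso Subobject.botCoeIsoZero
  obtain ⟨Q, h, hQ, hdim, hp⟩ := exists_saturation hE hd ⊥ (Sga67.CohBasic.isCoh_of_isZero h0)
  refine ⟨Q, hQ, ?_, hp⟩
  have h1 : Subobject.ofLE ⊥ Q h = 0 := h0.eq_of_src _ _
  have e : cokernel (Subobject.ofLE ⊥ Q h) ≅ (Q : X.Modules) :=
    cokernelIsoOfEq h1 ≪≫ cokernelZeroIsoTarget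
  rwa [support_congr e] at hdim

end pure

section slope

open K847.Pn K847.GL StabCat K847.HilbBasic K847.StabBasic

/-- Slopes of quotients of `O(-ρ)^b` of bounded multiplicity are bounded below. -/
theorem min_slope (n b : ℕ) (hb : 1 ≤ b) (ρ : ℤ) (e : ℕ) (a₀ : ℚ) : ∃ μ : ℚ,
    ∀ (k : Type u) [Field k] [Infinite k] (G : (CohB1.ProjSpace n k).Modules)
      (q : tw (FlatMod.freeMod (CohB1.ProjSpace n k) b) (-ρ) ⟶ G), Coh.IsCoh G → Epi q →
      topologicalKrullDim (CohB1.support G) ≤ ((e + 1 : ℕ) : WithBot ℕ∞) → ∀ P : ℚ[X], HP k G P →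
        alpha (e + 1) P ≤ a₀ → μ * alpha (e + 1) P ≤ alpha e P := by
  obtain ⟨𝒮, h𝒮, hmain⟩ := K847.GLTwist.twisted.{u} n b hb ρ (e + 1) a₀ 0
  obtain ⟨μ₁, hμ₁⟩ := (h𝒮.image (hatSlope (e + 1))).bddBelow
  refine ⟨min μ₁ 0, ?_⟩
  intro k _ _ G q hG hq hdim P hP ha
  have hNoeth := Fga.IntAdd.isNoetherian k (CohB1.ProjSpace n k)
  obtain ⟨Q, hQ, hQd, hQp⟩ := exists_pure_quot hG hdim
  have hL := isAmple_O_one k n
  have hC : Coh.IsCoh (cokernel Q.arrow) := isCoh_cokernel_sub hG Q hQ
  obtain ⟨PQ, hPQ⟩ := Coherent.K51.HPDict.exists_HP hQ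
  obtain ⟨PC, hPC⟩ := Coherent.K51.HPDict.exists_HP hC
  have hPQ' : HP k (Q : (CohB1.ProjSpace n k).Modules) PQ := hPQ
  have hPC' : HP k (cokernel Q.arrow) PC := hPC
  have hadd : P = PQ + PC := hilbPoly_add k hL.1 (ShortComplex.mk Q.arrow (cokernel.π Q.arrow) (cokernel.condition _))
    (shortExact_cokernel _) hQ hG hC (isHilbPoly_of_HP k hPQ') (isHilbPoly_of_HP k hP) (isHilbPoly_of_HP k hPC')
  have hQe : topologicalKrullDim (CohB1.support (Q : (CohB1.ProjSpace n k).Modules)) ≤ (e : WithBot ℕ∞) := by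
    refine ENat.WithBot.lt_add_one_iff.1 ?_
    exact_mod_cast hQd
  have h1 : alpha (e + 1) PQ = 0 := (alpha_eq_zero_iff k hL hQ hQd.le (isHilbPoly_of_HP k hPQ')).2 hQd
  have h2 : 0 ≤ alpha e PQ := alpha_nonneg k hL hQ hQe (isHilbPoly_of_HP k hPQ')
  have h3 : 0 ≤ alpha (e + 1) PC :=
    alpha_nonneg k hL hC ((dim_support_le_of_epi (cokernel.π Q.arrow)).trans hdim) (isHilbPoly_of_HP k hPC')
  have h4 : alpha (e + 1) P = alpha (e + 1) PC := by rw [hadd, K847.PolyOrd.alpha_add, h1, zero_add]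
  have h5 : alpha e PC ≤ alpha e P := by rw [hadd, K847.PolyOrd.alpha_add]; linarith
  rw [h4] at ha ⊢
  refine le_trans ?_ h5
  rcases h3.eq_or_lt with h6 | h6
  · -- the quotient is zero
    have h7 : topologicalKrullDim (CohB1.support (cokernel Q.arrow)) < ((e + 1 : ℕ) : WithBot ℕ∞) :=
      (alpha_eq_zero_iff k hL hC ((dim_support_le_of_epi (cokernel.π Q.arrow)).trans hdim)
        (isHilbPoly_of_HP k hPC')).1 h6.symm
    have h8 : IsZero (cokernel Q.arrow) := by
      by_contra h0
      rw [dim_support_eq_of_isPure hC h0 hQp] at h7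
      exact lt_irrefl _ h7
    rw [hilbPoly_eq_zero k h8 (isHilbPoly_of_HP k hPC')]
    simp [alpha]
  · by_cases h7 : hatSlope (e + 1) PC ≤ 0
    · have h8 : PC ∈ 𝒮 := hmain k (cokernel Q.arrow) (q ≫ cokernel.π Q.arrow) hC (epi_comp _ _) hQp PC hPC' ha
        (fun _ => h7)
      have h9 : μ₁ ≤ hatSlope (e + 1) PC := hμ₁ ⟨PC, h8, rfl⟩
      have h10 : min μ₁ 0 ≤ hatSlope (e + 1) PC := (min_le_left _ _).trans h9
      rw [hatSlope, Nat.add_sub_cancel, le_div_iff₀ h6] at h10
      exact h10
    · have h8 : min μ₁ 0 ≤ hatSlope (e + 1) PC := (min_le_right _ _).trans (not_le.1 h7).le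
      rw [hatSlope, Nat.add_sub_cancel, le_div_iff₀ h6] at h8
      exact h8

end slope

/-- **Node Min.** -/
theorem stmtMin : K781.Base.StmtMin.{u} := min_slope

end K34.NodeMin
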