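import Groth.Agent.ShStab.K847.GLTwist
import Groth.Agent.ShStab.K848.Poly
import Groth.Agent.ShStab.K846.ClPush
import Groth.Agent.ShStab.K846.HilbChi
import Groth.Agent.Coherent.K51.HPDict
import Groth.Agent.PerfC.ClosedPush

/-!
# Semistability, closed immersions and twists

* `isEllSemistable_push_iff`: for a closed immersion `i : Z ⟶ Y` over `k`, a module `G` on `Z` is `ℓ`-semistable with respect
  to `i^* L` iff `i_* G` is `ℓ`-semistable with respect to `L`.
* `isEllSemistable_tw`: the twists of `ℓ`-semistable modules on `P^n_k` are `ℓ`-semistable.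
-/

set_option autoImplicit false
universe u
open CategoryTheory CategoryTheory.Limits AlgebraicGeometry Polynomial

namespace K34.ClEll

open Groth.Agent Groth.Agent.Fga.PicMon ShStab StabCat K847.HilbBasic K847.StabBasic K847.TwistSS K847.PolyOrd

section poly

variable {ℓ d : ℕ}

theorem topPart_eq_zero {P : ℚ[X]} (h : P.natDegree < d - ℓ) : topPart ℓ d P = 0 := by
  ext i
  rw [K848.Poly.topPart_coeff, coeff_zero]
  split_ifs with hi
  · exact coeff_eq_zero_of_natDegree_lt (by omega)
  · rfl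

theorem leadingCoeff_topPart {P : ℚ[X]} (hP : P.natDegree ≤ d) (h : ¬ P.natDegree < d - ℓ) :
    (topPart ℓ d P).leadingCoeff = P.leadingCoeff := by
  by_cases h0 : P = 0
  · subst h0
    have h1 : topPart ℓ d (0 : ℚ[X]) = 0 := by
      ext i
      rw [K848.Poly.topPart_coeff, coeff_zero, ite_self]
    rw [h1]
  · have h1 : (topPart ℓ d P).coeff P.natDegree = P.leadingCoeff := by
      rw [K848.Poly.topPart_coeff, if_pos ⟨by omega, hP⟩]
      rfl
    have h2 : (topPart ℓ d P).natDegree = P.natDegree := by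
      apply le_antisymm
      · rw [natDegree_le_iff_coeff_eq_zero]
        intro i hi
        rw [K848.Poly.topPart_coeff, coeff_eq_zero_of_natDegree_lt hi, ite_self]
      · apply le_natDegree_of_ne_zero
        rw [h1]
        exact leadingCoeff_ne_zero.2 h0
    rw [leadingCoeff, h2, h1]

theorem leadingCoeff_topPart_nonneg_iff {P : ℚ[X]} (hP : P.natDegree ≤ d) :
    0 ≤ (topPart ℓ d P).leadingCoeff ↔ P.natDegree < d - ℓ ∨ 0 ≤ P.leadingCoeff := by
  by_cases h : P.natDegree < d - ℓ
  · rw [topPart_eq_zero h, leadingCoeff_zero]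
    simp [h]
  · rw [leadingCoeff_topPart hP h]
    simp [h]

theorem redLE_topPart_iff {P Q : ℚ[X]} (hP : P.natDegree ≤ d) (hQ : Q.natDegree ≤ d) :
    RedLE d (topPart ℓ d P) (topPart ℓ d Q) ↔
      (alpha d P • Q - alpha d Q • P).natDegree < d - ℓ ∨ 0 ≤ (alpha d P • Q - alpha d Q • P).leadingCoeff := by
  rw [redLE_iff, K848.Poly.alpha_topPart, K848.Poly.alpha_topPart, ← K848.Poly.topPart_smul,
    ← K848.Poly.topPart_smul, ← K848.Poly.topPart_sub, leadingCoeff_topPart_nonneg_iff]
  exact (natDegree_sub_le _ _).trans (max_le ((natDegree_smul_le _ _).trans hQ) ((natDegree_smul_le _ _).trans hP))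

/-- Translation invariance of the comparison of the reduced truncations. -/
theorem redLE_topPart_comp {P Q : ℚ[X]} (hP : P.natDegree ≤ d) (hQ : Q.natDegree ≤ d) (a : ℚ) :
    RedLE d (topPart ℓ d (P.comp (X + C a))) (topPart ℓ d (Q.comp (X + C a))) ↔
      RedLE d (topPart ℓ d P) (topPart ℓ d Q) := by
  rw [redLE_topPart_iff hP hQ, redLE_topPart_iff ((natDegree_comp_X_add P a).le.trans hP)
    ((natDegree_comp_X_add Q a).le.trans hQ), alpha_comp_X_add hP, alpha_comp_X_add hQ, ← smul_comp, ← smul_comp,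
    ← sub_comp, natDegree_comp_X_add, leadingCoeff_comp_X_add]

end poly

section iso

variable (k : Type u) [Field k] {X : Scheme.{u}} [X.Over (Spec (CommRingCat.of k))]

theorem isEllSemistable_iso {L E E' : X.Modules} (e : E ≅ E') {d ℓ : ℕ} (h : IsEllSemistable k X L E d ℓ) :
    IsEllSemistable k X L E' d ℓ := by
  obtain ⟨hc, h0, hp, hs⟩ := h
  refine ⟨Sga67.CohBasic.isCoh_of_iso e hc, fun hz => h0 (hz.of_iso e), isPure_iso e hp, ?_⟩
  intro F ι hι hF pF pE hpF hpE h1 h2
  exact hs F (ι ≫ e.inv) (mono_comp _ _) hF pF pE hpF (isHilbPoly_iso k e.symm hpE) h1 h2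

theorem isEllSemistable_iso_left {L L' E : X.Modules} (e : L ≅ L') {d ℓ : ℕ} (h : IsEllSemistable k X L E d ℓ) :
    IsEllSemistable k X L' E d ℓ := by
  obtain ⟨hc, h0, hp, hs⟩ := h
  refine ⟨hc, h0, hp, ?_⟩
  intro F ι hι hF pF pE hpF hpE h1 h2
  exact hs F ι hι hF pF pE (isHilbPoly_iso_left k e.symm hpF) (isHilbPoly_iso_left k e.symm hpE) h1 h2

end iso

section closed

variable (k : Type u) [Field k] {Z Y : Scheme.{u}} [Y.Over (Spec (CommRingCat.of k))]
  [Z.Over (Spec (CommRingCat.of k))] (i : Z ⟶ Y) [IsClosedImmersion i]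

theorem isCoh_push {G : Z.Modules} (hG : Coh.IsCoh G) : Coh.IsCoh ((Scheme.Modules.pushforward i).obj G) :=
  ⟨CohqA.AffPush.isQCoh_push i G hG.1, CohqA.AffPush.isFT_push i G hG.1 hG.2⟩

open Groth.Agent.CohqA.ClosedPush in
/-- `i^* i_* M ≅ M` for a closed immersion `i`. -/
noncomputable def counitIso (M : Z.Modules) :
    (Scheme.Modules.pullback i).obj ((Scheme.Modules.pushforward i).obj M) ≅ M :=
  asIso ((Scheme.Modules.pullbackPushforwardAdjunction i).counit.app M)

theorem isCoh_of_push {G : Z.Modules} (hG : Coh.IsCoh ((Scheme.Modules.pushforward i).obj G)) : Coh.IsCoh G :=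
  Sga67.CohBasic.isCoh_of_iso (counitIso i G) (FormalA.PullbackQC.isCoh_pullback _ _ hG)

theorem isZero_of_push {G : Z.Modules} (hG : IsZero ((Scheme.Modules.pushforward i).obj G)) : IsZero G :=
  (Functor.map_isZero (Scheme.Modules.pullback i) hG).of_iso (counitIso i G).symm

theorem isPure_of_push {G : Z.Modules} {d : ℕ} (h : IsPure Y ((Scheme.Modules.pushforward i).obj G) d) :
    IsPure Z G d := by
  intro F ι hι hF h0
  have h1 : Mono ((Scheme.Modules.pushforward i).map ι) := inferInstance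
  rw [← K846.ClPush.dim_support_push i]
  exact h _ ((Scheme.Modules.pushforward i).map ι) h1 (isCoh_push i hF) fun hz => h0 (isZero_of_push i hz)

variable (hi : i ≫ (Y ↘ Spec (CommRingCat.of k)) = Z ↘ Spec (CommRingCat.of k))

include hi in
theorem euler_twist_push {L : Y.Modules} (hL : PicF.IsInvertible L) (G : Z.Modules) (m : ℕ) :
    Curv2.euler k Y (twist Y L ((Scheme.Modules.pushforward i).obj G) m) =
      Curv2.euler k Z (twist Z ((Scheme.Modules.pullback i).obj L) G m) := by
  obtain ⟨e1⟩ := twist_swap L ((Scheme.Modules.pushforward i).obj G) m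
  have hLm := Fdesc.LocGen.isInvertible_tensorPow hL m
  have e2 := VarietyB.ProjForm.projIso i (VarietyB.TensCoh.HasBases.of_isFinLocFreeOfRank
    (Ega2.QCohLocal.isFinLocFreeOfRank_one_iff.mpr hLm)) G
  obtain ⟨e3⟩ := Ega3B.PullTensor.nonempty_pullPowIso i hL m
  obtain ⟨e4⟩ : Nonempty (CohB1.tensorMod ((Scheme.Modules.pullback i).obj (CohB1.tensorPow L m)) G ≅
      twist Z ((Scheme.Modules.pullback i).obj L) G m) := by
    rw [← mc_eq_iff]
    unfold ShStab.twist
    rw [mc_tensor, mc_tensor, mc_eq e3, mul_comm]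
  rw [euler_congr k e1, euler_congr k e2, K846.HilbChi.euler_push k i hi, euler_congr k e4]

include hi in
theorem isHilbPoly_push_iff {L : Y.Modules} (hL : PicF.IsInvertible L) (G : Z.Modules) (P : ℚ[X]) :
    IsHilbPoly k Y L ((Scheme.Modules.pushforward i).obj G) P ↔
      IsHilbPoly k Z ((Scheme.Modules.pullback i).obj L) G P := by
  unfold IsHilbPoly
  refine forall_congr' fun m => ?_
  rw [euler_twist_push k i hi hL]

open Groth.Agent.CycB.ClosedDev in
include hi in
/-- The direct image of an `ℓ`-semistable module is `ℓ`-semistable. -/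
theorem isEllSemistable_push {L : Y.Modules} (hL : PicF.IsInvertible L) {G : Z.Modules} {d ℓ : ℕ}
    (h : IsEllSemistable k Z ((Scheme.Modules.pullback i).obj L) G d ℓ) :
    IsEllSemistable k Y L ((Scheme.Modules.pushforward i).obj G) d ℓ := by
  obtain ⟨hc, h0, hp, hs⟩ := h
  refine ⟨isCoh_push i hc, fun hz => h0 (isZero_of_push i hz), K846.ClPush.isPure_push i hp, ?_⟩
  intro F ι hι hF pF pE hpF hpE h1 h2
  have h3 : IsIso ((ηη i).app F) := K846.ClPush.isIso_unit_of_mono ι
  have := CohqA.ClosedPush.full (i := i)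
  have := CohqA.ClosedPush.faithful (i := i)
  let ψ : (Scheme.Modules.pullback i).obj F ⟶ G :=
    ((Scheme.Modules.pullbackPushforwardAdjunction i).homEquiv F G).symm ι
  have hψ : (ηη i).app F ≫ (Scheme.Modules.pushforward i).map ψ = ι := by
    have := (Scheme.Modules.pullbackPushforwardAdjunction i).homEquiv_unit (X := F) (Y := G) (f := ψ)
    rw [Equiv.apply_symm_apply] at this
    exact this.symm
  have h4 : Mono ((Scheme.Modules.pushforward i).map ψ) := by
    have e : (Scheme.Modules.pushforward i).map ψ = inv ((ηη i).app F) ≫ ι := by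
      rw [← hψ, IsIso.inv_hom_id_assoc]
    rw [e]
    exact mono_comp _ _
  have h5 : Mono ψ := (Scheme.Modules.pushforward i).mono_of_mono_map h4
  have hF' : Coh.IsCoh ((Scheme.Modules.pullback i).obj F) := FormalA.PullbackQC.isCoh_pullback _ _ hF
  have e : F ≅ (Scheme.Modules.pushforward i).obj ((Scheme.Modules.pullback i).obj F) :=
    @asIso _ _ _ _ ((ηη i).app F) h3
  exact hs _ ψ h5 hF' pF pE ((isHilbPoly_push_iff k i hi hL _ _).1 (isHilbPoly_iso k e hpF))
    ((isHilbPoly_push_iff k i hi hL _ _).1 hpE) h1 h2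

include hi in
/-- A module whose direct image is `ℓ`-semistable is `ℓ`-semistable. -/
theorem isEllSemistable_of_push {L : Y.Modules} (hL : PicF.IsInvertible L) {G : Z.Modules} {d ℓ : ℕ}
    (h : IsEllSemistable k Y L ((Scheme.Modules.pushforward i).obj G) d ℓ) :
    IsEllSemistable k Z ((Scheme.Modules.pullback i).obj L) G d ℓ := by
  obtain ⟨hc, h0, hp, hs⟩ := h
  refine ⟨isCoh_of_push i hc, fun hz => h0 (Functor.map_isZero _ hz), isPure_of_push i hp, ?_⟩
  intro F ι hι hF pF pE hpF hpE h1 h2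
  exact hs _ ((Scheme.Modules.pushforward i).map ι) inferInstance (isCoh_push i hF) pF pE
    ((isHilbPoly_push_iff k i hi hL _ _).2 hpF) ((isHilbPoly_push_iff k i hi hL _ _).2 hpE) h1 h2

end closed

section twist

open K847.Pn K847.GL

variable (k : Type u) [Field k] {n : ℕ}

/-- Twists of `ℓ`-semistable modules are `ℓ`-semistable. -/
theorem isEllSemistable_tw {E : (CohB1.ProjSpace n k).Modules} {d ℓ : ℕ}
    (h : IsEllSemistable k (CohB1.ProjSpace n k) (O k n 1) E d ℓ) (a : ℤ) :
    IsEllSemistable k (CohB1.ProjSpace n k) (O k n 1) (tw E a) d ℓ := by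
  obtain ⟨hc, h0, hp, hs⟩ := h
  have hL := isAmple_O_one k n
  refine ⟨isCoh_tw hc a, fun hz => h0 ((isZero_tensor_right_iff (O_inv a) E).1 hz), isPure_tw hp a, ?_⟩
  intro G ι hι hG pG pE hpG hpE h1 h2
  have hιm : Mono (show G ⟶ CohB1.tensorMod E (O k n a) from ι) := hι
  obtain ⟨G', ι', hι', ⟨e1⟩, ⟨e2⟩, -⟩ :=
    exists_mono_of_tensor (O_inv a) (show G ⟶ CohB1.tensorMod E (O k n a) from ι)
  have hG' : Coh.IsCoh G' := Sga67.CohBasic.isCoh_of_iso e2.symm (isCoh_tw hG (-a))
  have hdE := dim_support_eq_of_isPure hc h0 hp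
  obtain ⟨qG, hqG⟩ := Coherent.K51.HPDict.exists_HP hG'
  obtain ⟨qE, hqE⟩ := Coherent.K51.HPDict.exists_HP hc
  have hqG' : HP k G' qG := hqG
  have hqE' : HP k E qE := hqE
  have h3 : pG = qG.comp (Polynomial.X + C (a : ℚ)) :=
    hilbPoly_unique k (isHilbPoly_iso k e1.symm hpG) (isHilbPoly_of_HP k (HP_tw k hqG' a))
  have h4 : pE = qE.comp (Polynomial.X + C (a : ℚ)) :=
    hilbPoly_unique k hpE (isHilbPoly_of_HP k (HP_tw k hqE' a))
  subst h3 h4
  have h5 : qG.natDegree ≤ d := natDegree_le k hL.1 hG' ((dim_support_le_of_mono ι').trans hdE.le)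
    (isHilbPoly_of_HP k hqG')
  have h6 : qE.natDegree ≤ d := natDegree_le k hL.1 hc hdE.le (isHilbPoly_of_HP k hqE')
  rw [alpha_comp_X_add h5] at h1 h2
  rw [alpha_comp_X_add h6] at h2
  rw [redLE_topPart_comp h5 h6]
  exact hs G' ι' hι' hG' qG qE (isHilbPoly_of_HP k hqG') (isHilbPoly_of_HP k hqE') h1 h2

end twist

end K34.ClEll
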