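import Groth.Agent.ShStab.K781.Inst2
import Groth.Agent.ShStab.K981.Sw
import Groth.Agent.ShStab.K34.ClEll

/-!
# `ℓ`-semistability of `E / s^a E(-a)` in terms of coherent submodules of `E` (node `StmtTrans`)
-/

set_option autoImplicit false
universe u
open CategoryTheory CategoryTheory.Limits AlgebraicGeometry TopologicalSpace Polynomial

namespace K34.NodeTrans

open Groth.Agent Groth.Agent.Fga.RegSec Groth.Agent.Fga.PicMon ShStab StabCat K847.Pn K847.GL
  Groth.Agent.FormalA.HHLin K781.Base K781.Cat K781.Cat2 K781.PLat K846.CSub K781.Inst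

variable {k : Type u} [Field k] {n : ℕ}

/-! ### `coker (E ⟶ O(1)^a ⊗ E) ≅ (E / h^a E)(a)` -/

theorem map_nu (s : Coh.structureModule (CohB1.ProjSpace n k) ⟶ O k n 1) (G : (CohB1.ProjSpace n k).Modules) :
    (Th k n).functor.map ((nu s).app G) = (nu s).app ((Th k n).functor.obj G) :=
  (K526.Cut.tm_eq (O k n 1) (mulS s G)).trans
    (K981.Sw.mapT_mulS (Ega3B.ProjTwist.isInvertible_twistProjSpace n k 1) s G)

/-- `iterT` is the iterate of `Th`. -/
theorem exists_It_iso (s : Coh.structureModule (CohB1.ProjSpace n k) ⟶ O k n 1)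
    (E : (CohB1.ProjSpace n k).Modules) (a : ℕ) :
    ∃ e : (It (Th k n).functor a).obj E ≅ iterT (O k n 1) a E,
      K781.Cat.nuI (Th k n) (nu s) a E ≫ e.hom = mulI s a E := by
  induction a with
  | zero => exact ⟨Iso.refl _, Category.comp_id _⟩
  | succ a ih =>
    obtain ⟨e, he⟩ := ih
    refine ⟨(Th k n).functor.mapIso e, ?_⟩
    change (K781.Cat.nuI (Th k n) (nu s) a E ≫ (nu s).app _) ≫ (Th k n).functor.map e.hom =
      mulI s a E ≫ mulS s (iterT (O k n 1) a E)
    rw [← he, Category.assoc, Category.assoc]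
    congr 1
    exact ((nu s).naturality e.hom).symm

theorem nonempty_It_tw (G : (CohB1.ProjSpace n k).Modules) (a : ℕ) :
    Nonempty ((It (Th k n).functor a).obj G ≅ tw G a) := by
  induction a with
  | zero =>
    rw [← mc_eq_iff, mc_tw]
    change mc G = _
    rw [show ((0 : ℕ) : ℤ) = 0 from rfl, mc_O_zero, mul_one]
  | succ a ih =>
    obtain ⟨e⟩ := ih
    have e1 : (It (Th k n).functor (a + 1)).obj G ≅ CohB1.tensorMod (O k n 1) (tw G a) :=
      (Th k n).functor.mapIso e
    rw [← mc_eq_iff, mc_eq e1, mc_tensor, mc_tw, mc_tw, mul_left_comm, mc_O_mul]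
    congr 2
    push_cast
    ring_nf

theorem nonempty_coker_iso (s : Coh.structureModule (CohB1.ProjSpace n k) ⟶ O k n 1)
    {E : (CohB1.ProjSpace n k).Modules} [Mono ((nu s).app E)] (a : ℕ) :
    Nonempty (cokernel (mulI s a E) ≅ tw (cokernel ((hsub (Th k n) (nu s))^[a] ⊤ : Subobject E).arrow) a) := by
  obtain ⟨e, he⟩ := exists_It_iso s E a
  obtain ⟨e1⟩ := nonempty_iso_cokernel (Th k n) (nu s) (E := E) (map_nu s) a
  obtain ⟨e2⟩ := nonempty_It_tw (cokernel ((hsub (Th k n) (nu s))^[a] ⊤ : Subobject E).arrow) a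
  have e3 : cokernel (K781.Cat.nuI (Th k n) (nu s) a E) ≅ cokernel (mulI s a E) :=
    cokernel.mapIso _ _ (Iso.refl _) e (by rw [he]; exact (Category.id_comp _).symm)
  exact ⟨e3.symm ≪≫ e1 ≪≫ e2⟩

theorem isEllSemistable_tw_iff {E : (CohB1.ProjSpace n k).Modules} {d ℓ : ℕ} (a : ℤ) :
    IsEllSemistable k (CohB1.ProjSpace n k) (O k n 1) (tw E a) d ℓ ↔
      IsEllSemistable k (CohB1.ProjSpace n k) (O k n 1) E d ℓ := by
  refine ⟨fun h => ?_, fun h => K34.ClEll.isEllSemistable_tw k h a⟩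
  obtain ⟨e⟩ : Nonempty (tw (tw E a) (-a) ≅ E) := by
    rw [← mc_eq_iff, mc_tw, mc_tw, mul_assoc, mc_O_mul, add_neg_cancel, mc_O_zero, mul_one]
  exact K34.ClEll.isEllSemistable_iso k e (K34.ClEll.isEllSemistable_tw k h (-a))

/-! ### Quotients of `E` by coherent submodules -/

section quot

variable {E : (CohB1.ProjSpace n k).Modules} [hE : Fact (Coh.IsCoh E)]

theorem coe_iter (s : Coh.structureModule (CohB1.ProjSpace n k) ⟶ O k n 1) [Mono ((nu s).app E)] (a : ℕ) :
    (((hC s)^[a] (⊤ : CSub E) : CSub E) : Subobject E) = (hsub (Th k n) (nu s))^[a] ⊤ := by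
  induction a with
  | zero => rfl
  | succ a ih =>
    rw [Function.iterate_succ_apply', Function.iterate_succ_apply', ← ih]
    rfl

/-- `ℓ`-semistability of `E / T`. -/
theorem isEllSemistable_coker_iff {g ℓ : ℕ} (T : CSub E)
    (hd : (PC (⊤ : CSub E) - PC T).natDegree ≤ g + 1) :
    IsEllSemistable k (CohB1.ProjSpace n k) (O k n 1) (cokernel (T : Subobject E).arrow) (g + 1) ℓ ↔
      PC T ≠ PC (⊤ : CSub E) ∧
      (∀ B : CSub E, T ≤ B → alpha (g + 1) (PC B) = alpha (g + 1) (PC T) → B ≤ T) ∧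
      (∀ A : CSub E, T ≤ A → 0 < alpha (g + 1) (PC A) - alpha (g + 1) (PC T) →
        alpha (g + 1) (PC A) < alpha (g + 1) (PC (⊤ : CSub E)) →
        RedLE (g + 1) (topPart ℓ (g + 1) (PC A - PC T)) (topPart ℓ (g + 1) (PC (⊤ : CSub E) - PC T))) := by
  have hQ : Coh.IsCoh (cokernel (T : Subobject E).arrow) :=
    Sga67.CohBasic.isCoh_cokernel _ T.2.1 hE.out
  have hpQ : Coherent.K51.HPDict.hp k n (cokernel (T : Subobject E).arrow) = PC (⊤ : CSub E) - PC T := by
    rw [hp_coker_arrow facts T, ← hp_top facts]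
    rfl
  have hTle : ∀ {F : (CohB1.ProjSpace n k).Modules} (ι : F ⟶ cokernel (T : Subobject E).arrow) [Mono ι],
      Coh.IsCoh F → (Coherent.K51.HPDict.hp k n F).natDegree ≤ g + 1 := by
    intro F ι _ hF
    refine (K849.Inst.natDegree_le_of_mono facts ι hF hQ).trans ?_
    rw [hpQ]
    exact hd
  -- submodules above `T`
  have hsub : ∀ B : CSub E, T ≤ B → ∃ (F : (CohB1.ProjSpace n k).Modules)
      (ι : F ⟶ cokernel (T : Subobject E).arrow), Mono ι ∧ Coh.IsCoh F ∧
        Coherent.K51.HPDict.hp k n F = PC B - PC T := by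
    intro B hTB
    refine ⟨cokernel (Subobject.ofLE T.1 B.1 hTB),
      K846.Lat.quotIncl (show T.1 ≤ B.1 from hTB) le_top ≫ (cokerTop T).hom, mono_comp _ _, coh_coker facts hTB,
      hp_coker facts hTB⟩
  have hpos : ∀ {F : (CohB1.ProjSpace n k).Modules}, Coh.IsCoh F → ¬ IsZero F →
      (Coherent.K51.HPDict.hp k n F).natDegree = g + 1 → alpha (g + 1) (Coherent.K51.HPDict.hp k n F) ≠ 0 := by
    intro F hF h0 hdeg
    have h1 := facts.pos F hF h0
    rw [leadingCoeff, hdeg] at h1
    unfold alpha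
    positivity
  refine ⟨fun h => ?_, fun h => ?_⟩
  · obtain ⟨-, h0, hp, hs⟩ := h
    refine ⟨fun he => h0 ?_, fun B hTB hB => ?_, fun A hTA hA1 hA2 => ?_⟩
    · by_contra hcon
      have h1 := facts.pos _ hQ hcon
      rw [hpQ, he, sub_self, leadingCoeff_zero] at h1
      exact lt_irrefl _ h1
    · obtain ⟨F, ι, hι, hF, hpF⟩ := hsub B hTB
      by_cases hz : IsZero F
      · have h1 : Coherent.K51.HPDict.hp k n F = 0 := (addH facts).v_zero hz
        rw [hpF, sub_eq_zero] at h1
        exact (eq_of_hp_eq facts hTB h1.symm).ge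
      · exfalso
        have h1 := hp F ι hι hF hz
        rw [facts.dim F hF hz] at h1
        have h2 : (Coherent.K51.HPDict.hp k n F).natDegree = g + 1 := by exact_mod_cast h1
        refine hpos hF hz h2 ?_
        rw [hpF, K847.PolyOrd.alpha_sub, hB, sub_self]
    · obtain ⟨F, ι, hι, hF, hpF⟩ := hsub A hTA
      have h1 := hs F ι hι hF (PC A - PC T) (PC (⊤ : CSub E) - PC T) (by rw [← hpF]; exact facts.spec F hF)
        (by rw [← hpQ]; exact facts.spec _ hQ)
      rw [K847.PolyOrd.alpha_sub, K847.PolyOrd.alpha_sub] at h1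
      exact h1 hA1 (by linarith)
  · obtain ⟨h0, hp, hs⟩ := h
    refine ⟨hQ, fun hz => h0 ?_, fun F ι hι hF hz => ?_, ?_⟩
    · have h1 : Coherent.K51.HPDict.hp k n (cokernel (T : Subobject E).arrow) = 0 := (addH facts).v_zero hz
      rw [hpQ, sub_eq_zero] at h1
      exact h1.symm
    · obtain ⟨H, hTH, hpF⟩ := exists_above facts T ι hF
      have hpF' : Coherent.K51.HPDict.hp k n F = PC H - PC T := hpF
      rw [facts.dim F hF hz]
      have h1 := hTle ι hF
      rcases h1.lt_or_eq with h2 | h2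
      · exfalso
        have h3 := K847.PolyOrd.alpha_eq_zero_of_natDegree_lt h2
        rw [hpF', K847.PolyOrd.alpha_sub, sub_eq_zero] at h3
        have h4 : H = T := le_antisymm (hp H hTH h3) hTH
        have h5 := facts.pos F hF hz
        rw [hpF', h4, sub_self, leadingCoeff_zero] at h5
        exact lt_irrefl _ h5
      · rw [h2]
    · intro F ι hι hF pF pE hpF hpE h1 h2
      obtain ⟨H, hTH, hpH⟩ := exists_above facts T ι hF
      have hpH' : Coherent.K51.HPDict.hp k n F = PC H - PC T := hpH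
      obtain rfl : pF = PC H - PC T := (facts.unique hF hpF).trans hpH'
      obtain rfl : pE = PC (⊤ : CSub E) - PC T := (facts.unique hQ hpE).trans hpQ
      rw [K847.PolyOrd.alpha_sub] at h1 h2
      rw [K847.PolyOrd.alpha_sub] at h2
      exact hs H hTH h1 (by linarith)

end quot

/-- **Node Trans.** -/
theorem main : StmtTrans.{u} := by
  intro k _ n g ℓ E _ hdim s _ a
  obtain ⟨e⟩ := nonempty_coker_iso (E := E) s a
  have h1 : IsEllSemistable k (CohB1.ProjSpace n k) (O k n 1) (cokernel (mulI s a E)) (g + 1) ℓ ↔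
      IsEllSemistable k (CohB1.ProjSpace n k) (O k n 1)
        (cokernel ((((hC s)^[a] (⊤ : CSub E) : CSub E) : Subobject E)).arrow) (g + 1) ℓ := by
    rw [coe_iter]
    refine Iff.trans ?_ (isEllSemistable_tw_iff (a : ℤ))
    exact ⟨fun h => K34.ClEll.isEllSemistable_iso k e h, fun h => K34.ClEll.isEllSemistable_iso k e.symm h⟩
  rw [h1]
  refine isEllSemistable_coker_iff _ ?_
  have H := pl s (E := E) (g := g) hdim
  refine PL.natDegree_lt_of_alpha H.natDegree_sub ?_
  exact H.num.r_hp a ⊤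

end K34.NodeTrans
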