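import Groth.Agent.ShStab.K781.Base
import Groth.Agent.ShStab.K34.ClEll
import Groth.Agent.RefCh.K939.GenHypCut

/-!
# Iterated multiplication by a section and restriction to a hypersurface section

* `exists_iter`: the `a`-fold multiplication by `s` is the multiplication by the section `s^a`.
* `mulS_proj`: compatibility of the multiplication by a section with the projection formula.
* `exists_iso_coker`: for a closed immersion `ι : X ⟶ Y` and a section `s` of `N` on `Y`, with zero scheme
  `i : D ⟶ X` of the restriction of `s` to `X`: `P ⊗ coker (s : ι_* E ⟶ N ⊗ ι_* E) ≅ (i ≫ ι)_* i^* E`, `P = N⁻¹`.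
-/

set_option autoImplicit false
universe u
open CategoryTheory CategoryTheory.Limits AlgebraicGeometry TopologicalSpace

namespace K34.MulIter

open Groth.Agent Groth.Agent.Fdesc Groth.Agent.Fdesc.LocGen Groth.Agent.Fga.RegSec Groth.Agent.Fga.PicMon
  Groth.Agent.Ega2 K781.Base

section tens

variable {X : Scheme.{u}} {N : X.Modules} (s : Coh.structureModule X ⟶ N)

theorem mapT_tmul' {M M' P P' : X.Modules} (f : M ⟶ M') (g : P ⟶ P') {U : X.Opens} (m : Γ(M, U)) (p : Γ(P, U)) :
    (Tens.mapT f g).app U (LocGen.tmul m p) = LocGen.tmul (f.app U m) (g.app U p) :=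
  CohqB.TwistMono.mapT_tmul' f g m p

/-- Naturality of the multiplication by a section. -/
theorem mulS_comp {F G : X.Modules} (φ : F ⟶ G) : φ ≫ mulS s G = mulS s F ≫ Tens.mapT (𝟙 N) φ := by
  apply Scheme.Modules.hom_ext
  intro U
  ext m
  change (mulS s G).app U (φ.app U m) = (Tens.mapT (𝟙 N) φ).app U ((mulS s F).app U m)
  rw [mulS_app, mulS_app, mapT_tmul']
  rfl

theorem mulS_comp_left {M : X.Modules} (φ : N ⟶ M) (F : X.Modules) :
    mulS (s ≫ φ) F = mulS s F ≫ Tens.mapT φ (𝟙 F) := by
  apply Scheme.Modules.hom_ext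
  intro U
  ext m
  change (mulS (s ≫ φ) F).app U m = (Tens.mapT φ (𝟙 F)).app U ((mulS s F).app U m)
  rw [mulS_app, mulS_app, mapT_tmul', sec_comp]
  rfl

theorem mulS_mulS {M : X.Modules} (t : Coh.structureModule X ⟶ M) (F : X.Modules) :
    mulS t F ≫ mulS s (CohB1.tensorMod M F) ≫ (Tens.assoc N M F).inv = mulS (t ≫ mulS s M) F := by
  apply Scheme.Modules.hom_ext
  intro U
  ext m
  change (Tens.assoc N M F).inv.app U ((mulS s (CohB1.tensorMod M F)).app U ((mulS t F).app U m)) =
    (mulS (t ≫ mulS s M) F).app U m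
  rw [mulS_app, mulS_app, mulS_app, sec_comp, mulS_app]
  exact Tens.assocInv_tmul _ _ _

/-- The `a`-fold multiplication by `s` is the multiplication by the section `s^a`. -/
theorem exists_iter (a : ℕ) (F : X.Modules) :
    ∃ θ : iterT N a F ≅ CohB1.tensorMod (iterT N a (Coh.structureModule X)) F,
      mulI s a F ≫ θ.hom = mulS (mulI s a (Coh.structureModule X)) F := by
  induction a with
  | zero =>
    refine ⟨(Tens.lunit F).symm, ?_⟩
    change 𝟙 F ≫ (Tens.lunit F).inv = (Tens.lunit F).inv ≫ Tens.mapT (𝟙 _) (𝟙 F)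
    rw [Tens.mapT_id, Category.id_comp, Category.comp_id]
  | succ a ih =>
    obtain ⟨θ, hθ⟩ := ih
    refine ⟨Tens.mapTIso (Iso.refl N) θ ≪≫ (Tens.assoc N (iterT N a (Coh.structureModule X)) F).symm, ?_⟩
    change (mulI s a F ≫ mulS s (iterT N a F)) ≫ Tens.mapT (𝟙 N) θ.hom ≫
      (Tens.assoc N (iterT N a (Coh.structureModule X)) F).inv =
        mulS (mulI s a (Coh.structureModule X) ≫ mulS s (iterT N a (Coh.structureModule X))) F
    rw [← mulS_mulS, ← hθ, Category.assoc, Category.assoc, ← reassoc_of% (mulS_comp s θ.hom)]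

theorem mem_genLocus_comp_mulS {M : X.Modules} (t : Coh.structureModule X ⟶ M) {x : X} (h1 : x ∈ CohB1.genLocus N s)
    (h2 : x ∈ CohB1.genLocus M t) : x ∈ CohB1.genLocus _ (t ≫ mulS s M) := by
  have h3 : CohB1.genLocus N s ⊓ CohB1.genLocus M t ≤ CohB1.genLocus _ (t ≫ mulS s M) := by
    rw [le_genLocus_iff, sec_comp, mulS_app]
    exact ((le_genLocus_iff s _).1 inf_le_left).tmul ((le_genLocus_iff t _).1 inf_le_right)
  exact h3 ⟨h1, h2⟩

theorem mem_genLocus_mulI (a : ℕ) {x : X} (h : x ∈ CohB1.genLocus N s) :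
    x ∈ CohB1.genLocus _ (mulI s a (Coh.structureModule X)) := by
  induction a with
  | zero =>
    have h1 : (⊤ : X.Opens) ≤ CohB1.genLocus _ (𝟙 (Coh.structureModule X)) := by
      rw [le_genLocus_iff]
      exact isGen_one _
    exact h1 trivial
  | succ a ih => exact mem_genLocus_comp_mulS s _ h ih

end tens

section proj

variable {X Y : Scheme.{u}} (f : X ⟶ Y) {N : Y.Modules} (s : Coh.structureModule Y ⟶ N)

theorem mulS_proj (G : X.Modules) :
    mulS s ((Scheme.Modules.pushforward f).obj G) ≫ VarietyB.ProjForm.projMor f N G =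
      (Scheme.Modules.pushforward f).map (mulS (LocGen.pullHom f s) G) := by
  apply Scheme.Modules.hom_ext
  intro U
  ext m
  change (VarietyB.ProjForm.projMor f N G).app U ((mulS s ((Scheme.Modules.pushforward f).obj G)).app U m) =
    (mulS (LocGen.pullHom f s) G).app (f ⁻¹ᵁ U) m
  rw [mulS_app, mulS_app, LocGen.sec_pullHom]
  exact VarietyB.ProjForm.projMor_tmul f N G _ _

end proj

section closed

variable {X Y : Scheme.{u}} (ι : X ⟶ Y) [IsClosedImmersion ι] {N : Y.Modules} (s : Coh.structureModule Y ⟶ N)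

/-- The cokernel of the multiplication by a section on a direct image. -/
theorem nonempty_coker_push (hN : PicF.IsInvertible N) (E : X.Modules) :
    Nonempty (cokernel (mulS s ((Scheme.Modules.pushforward ι).obj E)) ≅
      (Scheme.Modules.pushforward ι).obj (cokernel (mulS (LocGen.pullHom ι s) E))) := by
  have hB := VarietyB.TensCoh.HasBases.of_isFinLocFreeOfRank (Ega2.QCohLocal.isFinLocFreeOfRank_one_iff.mpr hN)
  have h1 : IsIso (VarietyB.ProjForm.projMor ι N E) := VarietyB.ProjForm.isIso_projMor ι hB E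
  have h2 : PreservesFiniteColimits (Scheme.Modules.pushforward ι) := PerfC.ClosedPush.preservesFiniteColimits ι
  exact ⟨(cokernelCompIsIso (mulS s ((Scheme.Modules.pushforward ι).obj E)) (VarietyB.ProjForm.projMor ι N E)).symm ≪≫
    cokernelIsoOfEq (mulS_proj ι s E) ≪≫
      (PreservesCokernel.iso (Scheme.Modules.pushforward ι) (mulS (LocGen.pullHom ι s) E)).symm⟩

theorem nonempty_iso_coker {P : Y.Modules} (hN : PicF.IsInvertible N) (hP : PicF.IsInvertible P)
    (hPN : Nonempty (CohB1.tensorMod P N ≅ Coh.structureModule Y)) (E : X.Modules) :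
    Nonempty (CohB1.tensorMod P (cokernel (mulS s ((Scheme.Modules.pushforward ι).obj E))) ≅
      (Scheme.Modules.pushforward ((PicF2.zeroScheme _ (LocGen.pullHom ι s)).subschemeι ≫ ι)).obj
        ((Scheme.Modules.pullback (PicF2.zeroScheme _ (LocGen.pullHom ι s)).subschemeι).obj E)) := by
  obtain ⟨e1⟩ := nonempty_coker_push ι s hN E
  have hB := VarietyB.TensCoh.HasBases.of_isFinLocFreeOfRank (Ega2.QCohLocal.isFinLocFreeOfRank_one_iff.mpr hP)
  have e2 := VarietyB.ProjForm.projIso ι hB (cokernel (mulS (LocGen.pullHom ι s) E))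
  have hN' := Fdesc.LocGen.isInvertible_pullback ι hN
  have hP' := Fdesc.LocGen.isInvertible_pullback ι hP
  have hPN' : Nonempty (CohB1.tensorMod ((Scheme.Modules.pullback ι).obj P) ((Scheme.Modules.pullback ι).obj N) ≅
      Coh.structureModule X) := by
    obtain ⟨θ⟩ := hPN
    obtain ⟨e⟩ := Ega3B.PullTensor.nonempty_pullUnitIso ι
    exact ⟨(K939.FlatDual.tensorIso ι P N).symm ≪≫ (Scheme.Modules.pullback ι).mapIso θ ≪≫ e⟩
  obtain ⟨e3⟩ := K939.GenHypCut.nonempty_iso hN' (LocGen.pullHom ι s)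
    (PicF2.zeroScheme _ (LocGen.pullHom ι s)).subschemeι
    (Scheme.IdealSheafData.ker_subschemeι _) E hP' hPN'
  exact ⟨Tens.mapTIso (Iso.refl P) e1 ≪≫ e2 ≪≫ (Scheme.Modules.pushforward ι).mapIso e3 ≪≫
    (Scheme.Modules.pushforwardComp (PicF2.zeroScheme _ (LocGen.pullHom ι s)).subschemeι ι).app
      ((Scheme.Modules.pullback (PicF2.zeroScheme _ (LocGen.pullHom ι s)).subschemeι).obj E)⟩

end closed

end K34.MulIter
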